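import Groth.Prelude.Def_CAlg2
import Groth.Agent.Calg6.ProdStalk
import Groth.Agent.ConstTorsor.ExtSection
import Groth.Agent.SpectralTopology.GeomUnibranchLocus
import Groth.Agent.Hensel1.SmoothBranchesScheme
import Groth.Agent.AlgSpBasic.LocalDim
import Groth.Agent.S2715

/-!
# Geometric unibranchness of stalks under extensions of the ground field
-/

set_option autoImplicit false
set_option backward.isDefEq.respectTransparency.types false

universe u

open CategoryTheory CategoryTheory.Limits AlgebraicGeometry TensorProduct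

namespace Groth.AlgSp2.Unibranch

open Groth.Calg6.ProdStalk (baseHom)

theorem isGeomUnibranch_of_ringEquiv {A B : Type u} [CommRing A] [CommRing B] [IsLocalRing A]
    [IsLocalRing B] (e : A ≃+* B) (h : CAlg2.IsGeomUnibranch A) : CAlg2.IsGeomUnibranch B :=
  Groth.GeomUnibranchLocus.isGeomUnibranch_of_red_equiv
    (Ideal.quotientEquiv (nilradical A) (nilradical B) e (by
      refine Ideal.ext fun x => ?_
      rw [show Ideal.map (e : A →+* B) (nilradical A) = (nilradical A).comap (e.symm : B →+* A) from
        (Ideal.comap_symm e).symm, Ideal.mem_comap, mem_nilradical, mem_nilradical]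
      exact (IsNilpotent.map_iff e.symm.injective).symm)) h

theorem baseHom_stalkMap {R : CommRingCat.{u}} {X Z : Scheme.{u}} (f : X ⟶ Spec R) (p : Z ⟶ X)
    (g : Z ⟶ Spec R) (hg : p ≫ f = g) (z : Z) :
    baseHom f (p z) ≫ p.stalkMap z = baseHom g z := by
  subst hg
  simp only [baseHom, Category.assoc, Scheme.Hom.germ_stalkMap, Scheme.Hom.comp_appTop]
  rfl

theorem isField_stalk_spec_field (K : Type u) [Field K] (y : ↥(Spec (CommRingCat.of K))) :
    IsField ((Spec (CommRingCat.of K)).presheaf.stalk y) := by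
  show IsField ((Spec.structureSheaf (CommRingCat.of K)).presheaf.stalk y)
  let φ := IsLocalization.atUnits (CommRingCat.of K) y.asIdeal.primeCompl
    (S := (Spec.structureSheaf (CommRingCat.of K)).presheaf.stalk y) (fun r hr => by
      exact (isUnit_iff_ne_zero (a := r)).mpr fun h => hr (h ▸ y.asIdeal.zero_mem))
  exact φ.symm.toMulEquiv.isField (Field.toIsField K)

/-- Geometric unibranchness is insensitive to extensions of the ground field. -/
theorem isGeomUnibranch_stalk_pullback {k K : Type u} [Field k] [Field K] {X : Scheme.{u}}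
    (f : X ⟶ Spec (CommRingCat.of k)) (g : Spec (CommRingCat.of K) ⟶ Spec (CommRingCat.of k))
    (z : ↥(pullback f g)) :
    CAlg2.IsGeomUnibranch (X.presheaf.stalk (pullback.fst f g z)) ↔
      CAlg2.IsGeomUnibranch ((pullback f g).presheaf.stalk z) := by
  have : Subsingleton ↥(Spec (CommRingCat.of k)) := inferInstanceAs (Subsingleton (PrimeSpectrum k))
  let A := X.presheaf.stalk (pullback.fst f g z)
  let L := (Spec (CommRingCat.of K)).presheaf.stalk (pullback.snd f g z)
  let B := (pullback f g).presheaf.stalk z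
  letI algA : Algebra k A := (baseHom f (pullback.fst f g z)).hom.toAlgebra
  letI algL : Algebra k L := (baseHom g (pullback.snd f g z)).hom.toAlgebra
  letI algB : Algebra k B := (baseHom (pullback.fst f g ≫ f) z).hom.toAlgebra
  letI fL : Field L := (isField_stalk_spec_field K (pullback.snd f g z)).toField
  let α : A →ₐ[k] B := AlgHom.mk ((pullback.fst f g).stalkMap z).hom
    (fun r => congr($(baseHom_stalkMap f _ _ rfl z).hom r))
  let β : L →ₐ[k] B := AlgHom.mk ((pullback.snd f g).stalkMap z).hom
    (fun r => congr($(baseHom_stalkMap g _ _ pullback.condition.symm z).hom r))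
  let π : A ⊗[k] L →ₐ[k] B := Algebra.TensorProduct.lift α β fun _ _ => Commute.all _ _
  have hl : π.toRingHom.comp Algebra.TensorProduct.includeLeftRingHom =
      ((pullback.fst f g).stalkMap z).hom := by
    refine RingHom.ext fun a => ?_
    show π (a ⊗ₜ 1) = _
    rw [Algebra.TensorProduct.lift_tmul, map_one, mul_one]
    rfl
  have hr : π.toRingHom.comp (Algebra.TensorProduct.includeRight (R := k) (A := A) (B := L)).toRingHom =
      ((pullback.snd f g).stalkMap z).hom := by
    refine RingHom.ext fun a => ?_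
    show π (1 ⊗ₜ a) = _
    rw [Algebra.TensorProduct.lift_tmul, map_one, one_mul]
    rfl
  let q : Ideal (A ⊗[k] L) := (IsLocalRing.maximalIdeal B).comap π.toRingHom
  have hq : q.comap (algebraMap A (A ⊗[k] L)) = IsLocalRing.maximalIdeal A := by
    show (q.comap Algebra.TensorProduct.includeLeftRingHom) = _
    rw [Ideal.comap_comap, hl]
    exact IsLocalRing.maximalIdeal_comap _
  have hloc := Groth.Calg6.ProdStalk.isLocalization_prod_stalk f g z π.toRingHom hl hr
  letI : Algebra (A ⊗[k] L) B := π.toRingHom.toAlgebra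
  haveI : IsLocalization.AtPrime B q := hloc
  refine (Groth.Agent.S2715.result k A L q hq).trans ?_
  let e : Localization.AtPrime q ≃+* B :=
    (IsLocalization.algEquiv q.primeCompl (Localization.AtPrime q) B).toRingEquiv
  exact ⟨isGeomUnibranch_of_ringEquiv e, isGeomUnibranch_of_ringEquiv e.symm⟩

theorem numGeomBranchesAt_eq_one_iff_of_isPullback {k K : Type u} [Field k] [Field K]
    {X W : Scheme.{u}} {f : X ⟶ Spec (CommRingCat.of k)}
    {g : Spec (CommRingCat.of K) ⟶ Spec (CommRingCat.of k)} {p : W ⟶ X}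
    {q : W ⟶ Spec (CommRingCat.of K)} (sq : IsPullback p q f g) (w : W) :
    Brnch.numGeomBranchesAt W w = 1 ↔ Brnch.numGeomBranchesAt X (p w) = 1 := by
  let e := sq.isoPullback
  have hp : p w = pullback.fst f g (e.hom w) := by
    rw [← Scheme.Hom.comp_apply, sq.isoPullback_hom_fst]
  rw [Groth.Hensel1.numGeomBranchesAt_eq_of_smooth e.hom w, hp]
  show Brnch.numGeomBranches _ = 1 ↔ Brnch.numGeomBranches _ = 1
  rw [Groth.Hensel1.numGeomBranches_eq_one_iff, Groth.Hensel1.numGeomBranches_eq_one_iff]
  exact (isGeomUnibranch_stalk_pullback f g (e.hom w)).symm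

/-- A point of a scheme with zero-dimensional local ring is geometrically unibranch. -/
theorem exists_numGeomBranchesAt_eq_one (X : Scheme.{u}) [Nonempty X] :
    ∃ x : X, Brnch.numGeomBranchesAt X x = 1 := by
  obtain ⟨x₀⟩ := ‹Nonempty X›
  obtain ⟨_, ⟨V, hV, rfl⟩, hx₀, -⟩ :=
    X.isBasis_affineOpens.exists_subset_of_mem_open (Set.mem_univ x₀) isOpen_univ
  have : Nontrivial Γ(X, V) := by
    refine ⟨⟨0, 1, fun h => ?_⟩⟩
    have := congrArg (X.presheaf.germ V x₀ hx₀).hom h
    rw [map_zero, map_one] at this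
    exact zero_ne_one this
  obtain ⟨m, hm⟩ := Ideal.exists_maximal Γ(X, V)
  obtain ⟨P, hP, -⟩ := Ideal.exists_minimalPrimes_le (I := (⊥ : Ideal Γ(X, V))) (J := m) bot_le
  have hPp : P.IsPrime := hP.1.1
  obtain ⟨x, hx⟩ : ∃ x : V, hV.primeIdealOf x = ⟨P, hPp⟩ :=
    ⟨⟨hV.fromSpec ⟨P, hPp⟩, hV.range_fromSpec.le ⟨_, rfl⟩⟩,
      hV.fromSpec.isOpenEmbedding.injective (hV.fromSpec_primeIdealOf _)⟩
  refine ⟨x.1, ?_⟩
  show Brnch.numGeomBranches _ = 1
  rw [Groth.Hensel1.numGeomBranches_eq_one_iff]
  let A := X.presheaf.stalk x.1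
  letI : Algebra Γ(X, V) A := (X.presheaf.germ V x.1 x.2).hom.toAlgebra
  haveI : IsLocalization.AtPrime A P := by
    have := hV.isLocalization_stalk x
    rw [hx] at this
    exact this
  have hnil : nilradical A = IsLocalRing.maximalIdeal A := by
    refine le_antisymm (IsLocalRing.le_maximalIdeal ?_) ?_
    · intro h
      obtain ⟨n, hn⟩ := mem_nilradical.1 (h.symm ▸ Submodule.mem_top : (1 : A) ∈ nilradical A)
      rw [one_pow] at hn
      exact one_ne_zero hn
    · intro a ha
      refine mem_nilradical.2 (nilpotent_iff_mem_prime.2 fun Q hQ => ?_)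
      have hcp : (Q.comap (algebraMap Γ(X, V) A)) = P := by
        refine le_antisymm ?_ (hP.2 ⟨Ideal.IsPrime.comap _, bot_le⟩ ?_)
        all_goals
          rw [← IsLocalization.AtPrime.comap_maximalIdeal A P]
          exact Ideal.comap_mono (IsLocalRing.le_maximalIdeal hQ.ne_top)
      rw [← IsLocalization.map_comap P.primeCompl A Q, Ideal.under, hcp,
        IsLocalization.AtPrime.map_eq_maximalIdeal P A]
      exact ha
  have hmax : (nilradical A).IsMaximal := hnil ▸ IsLocalRing.maximalIdeal.isMaximal A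
  have hF : IsField (CAlg2.red A) := (Ideal.Quotient.maximal_ideal_iff_isField_quotient _).1 hmax
  letI : Field (CAlg2.red A) := hF.toField
  refine Groth.GeomUnibranchLocus.isGeomUnibranch_of_red_equiv ?_
    (Groth.ConstTorsor.isGeomUnibranch_of_isField (CAlg2.red A) hF)
  exact (Ideal.quotEquivOfEq (nilradical_eq_zero (CAlg2.red A))).trans (RingEquiv.quotientBot _)

theorem etaleInvariant_numGeomBranchesAt :
    Groth.AlgSpBasic.EtaleInvariant fun (U : Scheme.{u}) u => Brnch.numGeomBranchesAt U u := by
  intro X Y f _ x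
  exact Groth.Hensel1.numGeomBranchesAt_eq_of_smooth f x

end Groth.AlgSp2.Unibranch
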