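import Groth.Agent.SpLimit.GrpdDim
import Groth.Agent.AlgSp2.Unibranch.FieldStalk

/-!
# Groups and groupoids in spaces over a field are geometrically unibranch
-/

set_option autoImplicit false
set_option backward.isDefEq.respectTransparency false
set_option backward.isDefEq.respectTransparency.types false

universe u

open CategoryTheory CategoryTheory.Limits AlgebraicGeometry Opposite AlgSp MonoidalCategory MonObj
open Groth.AlgSpBasic Groth.SpLimit

noncomputable section

namespace Groth.AlgSp2.Unibranch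

variable {S : Scheme.{u}}

/-- A space is geometrically unibranch at a point. -/
abbrev UnibAt (X : Sp S) (x : AlgSp.Points X) : Prop :=
  HasAt (fun U u => Brnch.numGeomBranchesAt U u = 1) X x

theorem exists_unibAt {X : Sp S} (hX : IsAlgSpace X) (x : AlgSp.Points X) :
    ∃ y : AlgSp.Points X, UnibAt X y := by
  obtain ⟨U, a, ha, has⟩ := hX.atlas
  obtain ⟨u, -⟩ := surjective_ofPt_of_repWith has x
  have : Nonempty ↥U.left := ⟨u⟩
  obtain ⟨v, hv⟩ := exists_numGeomBranchesAt_eq_one U.left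
  exact ⟨_, U, a, v, ha, rfl, hv⟩

/-- Being geometrically unibranch at a point does not change under an extension of the field. -/
theorem unibAt_baseChange {k K : Type u} [Field k] [Field K]
    {σ : Spec (CommRingCat.of k) ⟶ S} {τ : Spec (CommRingCat.of K) ⟶ S}
    (v : Over.mk τ ⟶ Over.mk σ) {X P : Sp S} (hX : IsAlgSpace X) (hP : IsAlgSpace P)
    (q : X ⟶ (yon S).obj (Over.mk σ)) {pr : P ⟶ X}
    {str : P ⟶ (yon S).obj (Over.mk τ)} (sq : IsPullback pr str q ((yon S).map v))
    (z : AlgSp.Points P) : UnibAt X (Points.map pr z) ↔ UnibAt P z := by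
  obtain ⟨U, a, ha, has⟩ := hX.atlas
  obtain ⟨u, hu⟩ := surjective_ofPt_of_repWith has (Points.map pr z)
  obtain ⟨fU, hfU⟩ := (yon S).map_surjective (a ≫ q)
  have sqY := (IsPullback.of_hasPullback fU v).map (yon S)
  let m : (yon S).obj (pullback fU v) ⟶ P := sq.lift ((yon S).map (pullback.fst fU v) ≫ a)
    ((yon S).map (pullback.snd fU v)) (by
      rw [Category.assoc, ← hfU, ← Functor.map_comp, ← Functor.map_comp, pullback.condition])
  have sqm : IsPullback m ((yon S).map (pullback.fst fU v)) pr a := by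
    refine IsPullback.of_right ?_ (sq.lift_fst _ _ _) sq.flip
    rw [sq.lift_snd, ← hfU]
    exact sqY.flip
  have hm : RepWith @Etale m := repWith_of_isPullback sqm.flip ha
  obtain ⟨w, hw, hwu⟩ := (map_eq_ofPt_iff sqm z u).1 hu.symm
  have sqS : IsPullback (pullback.fst fU v).left (pullback.snd fU v).left fU.left v.left :=
    (IsPullback.of_hasPullback fU v).map (Over.forget _)
  have e := numGeomBranchesAt_eq_one_iff_of_isPullback sqS w
  rw [show (pullback.fst fU v).left w = u from hwu] at e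
  constructor
  · intro h
    exact ⟨_, m, w, hm, hw,
      e.2 ((hasAt_iff_forall etaleInvariant_numGeomBranchesAt hX _ 1).1 h U a u ha hu)⟩
  · rintro ⟨V, b, y, hb, hy, hd⟩
    refine ⟨U, a, u, ha, hu, e.1 ?_⟩
    exact (inv_eq_of_ofPt_eq etaleInvariant_numGeomBranchesAt hP hm hb (hw.trans hy.symm)).trans hd

section Group

variable {k : Type u} [Field k]
variable (G : Over ((yon (kSpec k)).obj (Over.mk (𝟙 (kSpec k))))) [GrpObj G]

/-- A point of a group space is geometrically unibranch iff the unit is. -/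
theorem unibAt_iff_unit (hG : IsAlgSpace G.left) :
    ∃ e : AlgSp.Points G.left, ∀ g : AlgSp.Points G.left, UnibAt G.left g ↔ UnibAt G.left e := by
  let o : (yon (kSpec k)).obj (Over.mk (𝟙 (kSpec k))) ⟶ G.left :=
    (1 : ptOver ((yon (kSpec k)).obj (Over.mk (𝟙 (kSpec k)))) ⟶ G).left
  let o₀ : ↥(Over.mk (𝟙 (kSpec k))).left := (⟨⊥, Ideal.isPrime_bot⟩ : PrimeSpectrum k)
  let e := Points.ofPt o o₀
  refine ⟨e, fun g => ?_⟩
  obtain ⟨T, b₀, t, rfl⟩ := exists_ofPt g
  obtain ⟨C, _, _, p, hp⟩ := exists_residue_pt T t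
  let pt : ↥(kOver k C).left := (⟨⊥, Ideal.isPrime_bot⟩ : PrimeSpectrum C)
  rw [← hp pt, ← ofPt_comp_yon]
  generalize (yon (kSpec k)).map p ≫ b₀ = b
  obtain ⟨σ, hσs, hσf⟩ := exists_translation_left (G := G) b
  let fC := Over.mkIdTerminal.from (kOver k C)
  have hbc : ∀ w : AlgSp.Points (G.left ⨯ (yon _).obj (kOver k C)),
      UnibAt G.left (Points.map (prod.fst : G.left ⨯ (yon _).obj (kOver k C) ⟶ G.left) w) ↔
        UnibAt (G.left ⨯ (yon _).obj (kOver k C)) w := fun w =>
    unibAt_baseChange (σ := 𝟙 (kSpec k)) fC hG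
      (Groth.AlgSp3.isAlgSpace_prod hG (IsAlgSpace.yon_obj _)) G.hom
      (isPullback_fst_snd G.hom (kOver k C)) w
  let z : (yon (kSpec k)).obj (kOver k C) ⟶ G.left ⨯ (yon _).obj (kOver k C) :=
    prod.lift ((yon _).map fC ≫ o) (𝟙 _)
  have h1 : z ≫ σ.hom ≫ prod.fst = b := by
    rw [hσf, comp_mulP, prod.lift_snd_assoc, Category.id_comp, prod.lift_fst]
    show (ptHom b * ptHom ((yon _).map fC ≫ o)).left = b
    have : ptHom ((yon (kSpec k)).map fC ≫ o) = (1 : ptOver _ ⟶ G) := by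
      have h2 := MonObj.comp_one (M := G) (Over.homMk ((yon (kSpec k)).map fC)
        ((IsTerminal.isTerminalObj (yon (kSpec k)) _ Over.mkIdTerminal).hom_ext _ _) :
          ptOver ((yon (kSpec k)).obj (kOver k C)) ⟶ ptOver ((yon (kSpec k)).obj (Over.mk (𝟙 (kSpec k)))))
      rw [← h2]
      exact Over.OverMorphism.ext rfl
    rw [this, _root_.mul_one]
    rfl
  have he : Points.map (prod.fst : G.left ⨯ (yon _).obj (kOver k C) ⟶ G.left) (Points.ofPt z pt) = e := by
    rw [Points.map_ofPt, prod.lift_fst, ofPt_comp_yon,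
      Subsingleton.elim (α := PrimeSpectrum k) (fC.left pt) o₀]
  have hb : Points.map (prod.fst : G.left ⨯ (yon _).obj (kOver k C) ⟶ G.left)
      (Points.map σ.hom (Points.ofPt z pt)) = Points.ofPt b pt := by
    rw [Points.map_ofPt, Points.map_ofPt, Category.assoc, h1]
  have hiso : ∀ {X Y : Sp (kSpec k)} (f : X ⟶ Y) [IsIso f] (x : AlgSp.Points X),
      UnibAt X x → UnibAt Y (Points.map f x) := by
    rintro X Y f _ x ⟨V, c, v, hc, rfl, hd⟩
    exact ⟨V, c ≫ f, v, repWith_comp hc (repWith_isIso f), (Points.map_ofPt (f := f) (g := c) v).symm, hd⟩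
  rw [← hb, ← he, hbc, hbc]
  refine ⟨fun h => ?_, hiso σ.hom _⟩
  have := hiso σ.inv _ h
  rwa [← Points.map_comp, σ.hom_inv_id, Points.map_id] at this

theorem unibAt_group (hG : IsAlgSpace G.left) (g : AlgSp.Points G.left) : UnibAt G.left g := by
  obtain ⟨e, he⟩ := unibAt_iff_unit G hG
  obtain ⟨y, hy⟩ := exists_unibAt hG g
  exact (he g).2 ((he y).1 hy)

end Group

section Groupoid

variable {B : Sp S} (G : AlgSp.GroupoidSp B) {k : Type u} [Field k]

/-- An arrow of a groupoid over a field is geometrically unibranch iff the unit is. -/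
theorem unibAt_iff_unit_grpd {σ : Spec (CommRingCat.of k) ⟶ S}
    (eU : G.U ≅ (yon S).obj (Over.mk σ)) (hR : IsAlgSpace G.R) :
    ∃ e : AlgSp.Points G.R, ∀ r : AlgSp.Points G.R, UnibAt G.R r ↔ UnibAt G.R e := by
  have hU : IsAlgSpace G.U := (IsAlgSpace.yon_obj _).of_iso eU.symm
  let o₀ : ↥(Over.mk σ).left := (⟨⊥, Ideal.isPrime_bot⟩ : PrimeSpectrum k)
  let e := Points.ofPt (eU.inv ≫ G.e) o₀
  refine ⟨e, fun r => ?_⟩
  obtain ⟨T, b₀, t, rfl⟩ := exists_ofPt r
  let C := T.left.residueField t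
  let TC : Over S := Over.mk (T.left.fromSpecResidueField t ≫ T.hom)
  let pC : TC ⟶ T := Over.homMk (T.left.fromSpecResidueField t) rfl
  let pt : ↥TC.left := (⟨⊥, Ideal.isPrime_bot⟩ : PrimeSpectrum C)
  have hpC : pC.left pt = t := Scheme.fromSpecResidueField_apply t pt
  rw [← hpC, ← ofPt_comp_yon]
  generalize (yon S).map pC ≫ b₀ = b
  have hfib : ∀ (c : (yon S).obj TC ⟶ G.U) (z : AlgSp.Points (pullback G.s c)),
      UnibAt G.R (Points.map (pullback.fst G.s c) z) ↔ UnibAt (pullback G.s c) z := by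
    intro c z
    obtain ⟨v, hv⟩ := (yon S).map_surjective (c ≫ eU.hom)
    refine unibAt_baseChange v hR
      (isAlgSpace_of_isPullback (IsPullback.of_hasPullback G.s c) hU.diag hR (IsAlgSpace.yon_obj _))
      (G.s ≫ eU.hom) (str := pullback.snd G.s c) ?_ z
    rw [hv]
    exact (IsPullback.of_hasPullback G.s c).of_iso (Iso.refl _) (Iso.refl _) (Iso.refl _) eU
      (by simp) (by simp) (by simp) (by simp)
  let P₁ := pullback G.s (b ≫ G.t)
  let P₂ := pullback G.s (b ≫ G.s)
  let fw : P₁ ⟶ P₂ := pullback.lift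
    (Groth.AlgSp2.GrpdAlg.comp G (pullback.fst _ _) (pullback.snd G.s (b ≫ G.t) ≫ b)
      (by rw [Category.assoc, pullback.condition]))
    (pullback.snd _ _) (by rw [Groth.AlgSp2.GrpdAlg.comp_src, Category.assoc])
  let bw : P₂ ⟶ P₁ := pullback.lift
    (Groth.AlgSp2.GrpdAlg.comp G (pullback.fst _ _) ((pullback.snd G.s (b ≫ G.s) ≫ b) ≫ G.i)
      (by rw [Groth.AlgSp2.GrpdAlg.inv_tgt, Category.assoc, pullback.condition]))
    (pullback.snd _ _) (by rw [Groth.AlgSp2.GrpdAlg.comp_src, Groth.AlgSp2.GrpdAlg.inv_src, Category.assoc])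
  have hfw : fw ≫ pullback.snd _ _ = pullback.snd G.s (b ≫ G.t) := pullback.lift_snd _ _ _
  have hbw : bw ≫ pullback.snd _ _ = pullback.snd G.s (b ≫ G.s) := pullback.lift_snd _ _ _
  have hiso₁ : fw ≫ bw = 𝟙 _ := by
    apply pullback.hom_ext
    · rw [Category.assoc, pullback.lift_fst, Category.id_comp, Groth.AlgSp2.GrpdAlg.nat]
      refine (Groth.AlgSp2.GrpdAlg.comp_congr G (pullback.lift_fst _ _ _) ?_).trans
        (Groth.AlgSp2.GrpdAlg.cancel_inv_right G
          (β := pullback.snd G.s (b ≫ G.t) ≫ b) (by rw [Category.assoc, pullback.condition]))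
      simp only [← Category.assoc, hfw]
    · rw [Category.assoc, hbw, hfw, Category.id_comp]
  have hiso₂ : bw ≫ fw = 𝟙 _ := by
    apply pullback.hom_ext
    · rw [Category.assoc, pullback.lift_fst, Category.id_comp, Groth.AlgSp2.GrpdAlg.nat]
      refine (Groth.AlgSp2.GrpdAlg.comp_congr G (pullback.lift_fst _ _ _) ?_).trans
        (Groth.AlgSp2.GrpdAlg.cancel_inv_left G
          (α := pullback.fst G.s (b ≫ G.s)) (β := pullback.snd G.s (b ≫ G.s) ≫ b)
          (by rw [Groth.AlgSp2.GrpdAlg.inv_tgt, Category.assoc, pullback.condition]))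
      simp only [← Category.assoc, hbw]
    · rw [Category.assoc, hfw, hbw, Category.id_comp]
  let z : (yon S).obj TC ⟶ P₁ := pullback.lift (b ≫ G.t ≫ G.e) (𝟙 _)
    (by simp only [Category.assoc, G.e_s, Category.comp_id, Category.id_comp])
  have hz : z ≫ fw ≫ pullback.fst _ _ = b := by
    rw [show fw ≫ pullback.fst _ _ = Groth.AlgSp2.GrpdAlg.comp G (pullback.fst _ _)
      (pullback.snd G.s (b ≫ G.t) ≫ b) (by rw [Category.assoc, pullback.condition]) from
      pullback.lift_fst _ _ _, Groth.AlgSp2.GrpdAlg.nat]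
    refine (Groth.AlgSp2.GrpdAlg.comp_congr G (pullback.lift_fst _ _ _)
      (β' := b) (by rw [← Category.assoc, pullback.lift_snd]; exact Category.id_comp b)).trans (Groth.AlgSp2.GrpdAlg.unit_comp G _ rfl)
  have he : Points.map (pullback.fst G.s (b ≫ G.t)) (Points.ofPt z pt) = e := by
    obtain ⟨v, hv⟩ := (yon S).map_surjective ((b ≫ G.t) ≫ eU.hom)
    rw [Points.map_ofPt, pullback.lift_fst,
      show b ≫ G.t ≫ G.e = (yon S).map v ≫ eU.inv ≫ G.e by simp [hv], ofPt_comp_yon,
      Subsingleton.elim (α := PrimeSpectrum k) (v.left pt) o₀]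
  have hb : Points.map (pullback.fst G.s (b ≫ G.s)) (Points.map fw (Points.ofPt z pt)) =
      Points.ofPt b pt := by
    rw [Points.map_ofPt, Points.map_ofPt, Category.assoc, hz]
  have hiso : ∀ {X Y : Sp S} (f : X ⟶ Y) [IsIso f] (x : AlgSp.Points X),
      UnibAt X x → UnibAt Y (Points.map f x) := by
    rintro X Y f _ x ⟨V, c, v, hc, rfl, hd⟩
    exact ⟨V, c ≫ f, v, repWith_comp hc (repWith_isIso f), (Points.map_ofPt (f := f) (g := c) v).symm, hd⟩
  have : IsIso fw := ⟨bw, hiso₁, hiso₂⟩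
  have : IsIso bw := ⟨fw, hiso₂, hiso₁⟩
  rw [← hb, ← he, hfib, hfib]
  refine ⟨fun h => ?_, hiso fw _⟩
  have := hiso bw _ h
  rwa [← Points.map_comp, hiso₁, Points.map_id] at this

theorem unibAt_grpd {σ : Spec (CommRingCat.of k) ⟶ S}
    (eU : G.U ≅ (yon S).obj (Over.mk σ)) (hR : IsAlgSpace G.R) (r : AlgSp.Points G.R) :
    UnibAt G.R r := by
  obtain ⟨e, he⟩ := unibAt_iff_unit_grpd G eU hR
  obtain ⟨y, hy⟩ := exists_unibAt hR r
  exact (he r).2 ((he y).1 hy)

end Groupoid

end Groth.AlgSp2.Unibranch
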